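import Cfsg.Agent.Spor.Fi3510.U.D0

set_option autoImplicit false
set_option maxRecDepth 100000000
set_option Elab.async false

namespace Cfsg.Agent.Spor.Fi3510.U

theorem rel3 : U.rel 12 [21, 21] 0 12 = true := by decide +kernel

theorem rel4 : U.rel 12 [21, 5, 21, 5] 0 12 = true := by decide +kernel

theorem rel5 : U.rel 12 [21, 7, 21, 7] 0 12 = true := by decide +kernel

theorem rel6 : U.rel 12 [21, 9, 21, 9] 0 12 = true := by decide +kernel

theorem rel7 : U.rel 12 [21, 11, 21, 11, 21, 11] 0 12 = true := by decide +kernel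

theorem rel8 : U.rel 12 [21, 13, 21, 13] 0 12 = true := by decide +kernel

theorem rel9 : U.rel 12 [21, 15, 21, 15] 0 12 = true := by decide +kernel

theorem rel10 : U.rel 12 [21, 17, 21, 17, 21, 17] 0 12 = true := by decide +kernel

theorem rel11 : U.rel 12 [21, 1, 21, 1] 0 12 = true := by decide +kernel

theorem rel12 : U.rel 12 [5, 13, 11, 9, 7, 15, 17, 5, 13, 11, 9, 7, 15, 17, 5, 13, 11, 9, 7, 15, 17, 5, 13, 11, 9, 7, 15, 17, 5, 13, 11, 9, 7, 15, 17, 5, 13, 11, 9, 7, 15, 17, 5, 13, 11, 9, 7, 15, 17, 5, 13, 11, 9, 7, 15, 17, 5, 13, 11, 9, 7, 15, 17] 0 12 = true := by decide +kernel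

theorem rel13 : U.rel 12 [21, 11, 9, 7, 17, 15, 21, 11, 17, 21, 9, 7, 15, 17, 11, 21, 9, 11, 7, 9, 15, 7, 17, 15] 0 12 = true := by decide +kernel

theorem rel14 : U.rel 12 [21, 11, 9, 7, 13, 11, 9, 15, 21, 11, 13, 7, 9, 11, 21, 15, 7, 9, 11, 13, 15, 7, 9, 11, 15, 7, 9, 15, 7, 15] 0 12 = true := by decide +kernel

theorem rel15 : U.rel 12 [1, 21, 11, 9, 7, 5, 15, 7, 9, 11, 21, 15, 7, 5, 9, 11, 7, 9, 15, 7, 5, 15, 7, 9, 11, 15, 7, 9, 15, 7, 15] 0 12 = true := by decide +kernel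

theorem sd16 : U.sends [1] 1 2 = true := by decide +kernel

theorem sd17 : U.sends [7, 5, 7, 5] 1 5 = true := by decide +kernel

theorem sd18 : U.sends [1, 3, 1, 3] 0 2 = true := by decide +kernel

end Cfsg.Agent.Spor.Fi3510.U
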